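import Cfsg.Agent.Omega.ML.Ratio

/-!
# SN.Two at every level, `r ≥ 2` (helper108 #23668 (4), helper723): the `D₈` trick; K-free

`H` acts on the elementary abelian group `M` (`= U_z`), `f = fab M a b`.

* `EAt B` : an elementary abelian quadratic atom;  `BQ Q` : the join of the `EAt`s in `Q`;  `RQ Q = [M, BQ Q]`;
* `dtrick` : `B ≤ O₁`, `D ≤ O₂` atoms, `O₁`, `O₂` flat, `D ≤ N(O₁)`, `B ≤ N(O₂)` ⟹ `D` normalises `[M, B]`;
* `exists_swap` : **(F0)**: a normal subgroup of `X_ij` which moves `z_i` contains an element `y ∈ T` with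
  `z_i^y = z_j`;
* `false_of_const` : `p ↦ [M, B_p]` is not constant;
* `false_of_mixed` : **(A)-(D)**.
-/

set_option autoImplicit false

namespace Cfsg.Agent.Omega.NO3S.SN.S2

open Subgroup Cfsg.Agent.ClassTwoFusion.Quad Cfsg.Agent.Omega.NOThree.NoOver Cfsg.Agent.Omega.ML.CD
open Cfsg.Agent.Omega.ML.Ratio

variable {H : Type*} [Group H] {M : Type*} [CommGroup M] [MulDistribMulAction H M]

/-! ### `[M, X]` -/

theorem br_sSup_le {S : Set (Subgroup H)} {U : Subgroup M} (h : ∀ B ∈ S, br M B ≤ U) : br M (sSup S) ≤ U := by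
  rw [br, closure_le]
  rintro _ ⟨x, hx, m, rfl⟩
  rw [sSup_eq_iSup, ← iSup_subtype'', Subgroup.iSup_eq_closure] at hx
  revert m
  refine closure_induction (p := fun x _ => ∀ m : M, x • m * m⁻¹ ∈ (U : Set M)) ?_ ?_ ?_ ?_ hx
  · intro y hy m
    obtain ⟨B, hB⟩ := Set.mem_iUnion.1 hy
    exact h B.1 B.2 (mem_br hB m)
  · intro m
    rw [one_smul, mul_inv_cancel]
    exact U.one_mem
  · intro y z _ _ h1 h2 m
    have e : (y * z) • m * m⁻¹ = (y • (z • m) * (z • m)⁻¹) * (z • m * m⁻¹) := by rw [mul_smul]; group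
    rw [e]
    exact U.mul_mem (h1 _) (h2 _)
  · intro y _ h1 m
    have h2 := h1 (y⁻¹ • m)
    rw [smul_inv_smul] at h2
    have h3 := U.inv_mem h2
    rwa [mul_inv_rev, inv_inv] at h3

theorem mem_br_cj {g : H} {B : Subgroup H} {m : M} : m ∈ br M (cj g B) ↔ g⁻¹ • m ∈ br M B := by
  constructor
  · intro h
    have h1 := smul_mem_br (g := g⁻¹) h
    rwa [cj_cj, inv_mul_cancel, cj_one] at h1
  · intro h
    have h1 := smul_mem_br (g := g) h
    rwa [smul_inv_smul] at h1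

/-! ### atoms -/

variable (M) in
/-- an elementary abelian quadratic atom -/
structure EAt (a b : ℕ) (B : Subgroup H) : Prop where
  at' : Atom (fab M a b) B
  sq : ∀ x ∈ B, x * x = 1
  quad : br M B ≤ cv M (B : Set H)

theorem EAt.conj [Finite H] [Finite M] {a b : ℕ} {B : Subgroup H} (h : EAt M a b B) (g : H) : EAt M a b (cj g B) where
  at' := h.at'.conj (ls_fab M a b) g
  sq := by
    rintro _ ⟨x, hx, rfl⟩
    change g * x * g⁻¹ * (g * x * g⁻¹) = 1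
    have e : g * x * g⁻¹ * (g * x * g⁻¹) = g * (x * x) * g⁻¹ := by group
    rw [e, h.sq x hx]
    group
  quad := by
    intro m hm y hy
    rw [mem_br_cj] at hm
    have h1 := h.quad hm (g⁻¹ * y * g) (mem_cj.1 hy)
    have e : y • m = g • ((g⁻¹ * y * g) • (g⁻¹ • m)) := by
      rw [← mul_smul, ← mul_smul]; congr 1; group
    rw [e, h1, smul_inv_smul]

variable (M) in
/-- the join of the atoms in `Q` -/
def BQ (a b : ℕ) (Q : Subgroup H) : Subgroup H := sSup {B | EAt M a b B ∧ B ≤ Q}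

variable (M) in
/-- `[M, BQ Q]` -/
def RQ (a b : ℕ) (Q : Subgroup H) : Subgroup M := br M (BQ M a b Q)

variable {a b : ℕ}

theorem EAt.le_BQ {B Q : Subgroup H} (h : EAt M a b B) (hB : B ≤ Q) : B ≤ BQ M a b Q := le_sSup ⟨h, hB⟩

theorem cj_BQ_le [Finite H] [Finite M] (g : H) (Q : Subgroup H) : cj g (BQ M a b Q) ≤ BQ M a b (cj g Q) := by
  rw [cj_le_iff]
  refine sSup_le fun B hB => ?_
  rw [← cj_le_iff]
  exact (hB.1.conj g).le_BQ (cj_mono hB.2)

theorem BQ_cj [Finite H] [Finite M] (g : H) (Q : Subgroup H) : BQ M a b (cj g Q) = cj g (BQ M a b Q) := by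
  refine le_antisymm ?_ (cj_BQ_le g Q)
  have h1 := cj_BQ_le (M := M) (a := a) (b := b) g⁻¹ (cj g Q)
  rwa [cj_cj, inv_mul_cancel, cj_one, cj_le_iff, inv_inv] at h1

theorem mem_RQ_cj [Finite H] [Finite M] {g : H} {Q : Subgroup H} {m : M} : m ∈ RQ M a b (cj g Q) ↔ g⁻¹ • m ∈ RQ M a b Q := by
  rw [RQ, BQ_cj, mem_br_cj, RQ]

theorem EAt.br_le {B Q : Subgroup H} (h : EAt M a b B) (hB : B ≤ Q) : br M B ≤ RQ M a b Q := br_mono (h.le_BQ hB)

/-- **the `D₈` trick** -/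
theorem dtrick [Finite H] [Finite M] (ha : a ≠ 0) (hb : b ≠ 0) {O₁ O₂ B D : Subgroup H}
    (f1 : Flat (fab M a b) O₁) (f2 : Flat (fab M a b) O₂) (p2 : IsPGroup 2 O₂)
    (aB : EAt M a b B) (aD : EAt M a b D) (hB : B ≤ O₁) (hD : D ≤ O₂)
    (hDn : D ≤ normalizer (O₁ : Set H)) (hBn : B ≤ normalizer (O₂ : Set H)) {d : H} (hd : d ∈ D) {m : M}
    (hm : m ∈ br M B) : d • m ∈ br M B := by
  have hfix : ∀ {A O : Subgroup H} {g : H}, A ≤ O → g ∈ normalizer (O : Set H) → cj g A ≤ O := by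
    rintro A O g hA hg _ ⟨x, hx, rfl⟩
    exact (mem_normalizer_iff.1 hg x).1 (hA hx)
  by_cases hex : ∃ d₀ ∈ D, cj d₀ B ≠ B
  · -- `[M, B] ≤ C_M(D)`
    obtain ⟨d₀, hd₀, hne⟩ := hex
    have hB' : cj d₀ B ≤ O₁ := hfix hB (hDn hd₀)
    have key : br M B ≤ cv M (D : Set H) := by
      rw [br, closure_le]
      rintro _ ⟨y, hy, m, rfl⟩
      obtain ⟨c, hc, e, he, rfl⟩ := Atom.exists_mul ha hb f1 aB.at' (aB.at'.conj (ls_fab M a b) d₀) hB hB' hne.symm m
      have h1 : y • e = e := he y hy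
      have h2 : y • (c * e) * (c * e)⁻¹ = y • c * c⁻¹ := by rw [smul_mul', h1]; group
      rw [h2]
      -- `y d₀ y⁻¹ d₀⁻¹`
      have h3 : (d₀ * y * d₀⁻¹) • c = c := hc _ ⟨y, hy, rfl⟩
      have hyy := aB.sq y hy
      have hdd := aD.sq d₀ hd₀
      have hyi : y⁻¹ = y := inv_eq_of_mul_eq_one_left hyy
      have h4 : y • c = (y * d₀ * y⁻¹) • (d₀⁻¹ • c) := by
        rw [← mul_smul]
        have e1 : y * d₀ * y⁻¹ * d₀⁻¹ = y * (d₀ * y * d₀⁻¹) := by rw [hyi]; group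
        rw [e1, mul_smul, h3]
      have h5 : y • c * c⁻¹ = ((y * d₀ * y⁻¹) • (d₀⁻¹ • c) * (d₀⁻¹ • c)⁻¹) * (d₀⁻¹ • c * c⁻¹) := by
        rw [h4]; group
      rw [h5]
      have hx1 : (y * d₀ * y⁻¹) ∈ cj y D := ⟨d₀, hd₀, rfl⟩
      have h6 := mem_br (M := M) hx1 (d₀⁻¹ • c)
      have h7 := mem_br (M := M) (D.inv_mem hd₀) c
      refine (cv M (D : Set H)).mul_mem ?_ (aD.quad h7)
      by_cases h8 : cj y D = D
      · rw [h8] at h6
        exact aD.quad h6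
      · exact Atom.eq ha hb f2 p2 (aD.at'.conj (ls_fab M a b) y) aD.at' (hfix hD (hBn hy)) hD h8 h6
    have h1 : d • m = m := key hm d hd
    rw [h1]
    exact hm
  · push Not at hex
    have h1 := smul_mem_br (g := d) hm
    rwa [hex d hd] at h1

/-- `D` normalises `R(w) = [M, B_w]` -/
theorem smul_mem_RQ [Finite H] [Finite M] (ha : a ≠ 0) (hb : b ≠ 0) {O₁ O₂ Q D : Subgroup H}
    (f1 : Flat (fab M a b) O₁) (f2 : Flat (fab M a b) O₂) (p2 : IsPGroup 2 O₂) (aD : EAt M a b D) (hD : D ≤ O₂)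
    (hDn : D ≤ normalizer (O₁ : Set H)) (hQ : ∀ B : Subgroup H, EAt M a b B → B ≤ Q → B ≤ O₁ ∧ B ≤ normalizer (O₂ : Set H))
    {d : H} (hd : d ∈ D) {m : M} (hm : m ∈ RQ M a b Q) : d • m ∈ RQ M a b Q := by
  have h1 : RQ M a b Q ≤ (RQ M a b Q).comap (MulDistribMulAction.toMonoidHom M d) := by
    refine br_sSup_le fun B hB m hm => ?_
    obtain ⟨h1, h2⟩ := hQ B hB.1 hB.2
    exact hB.1.br_le hB.2 (dtrick ha hb f1 f2 p2 hB.1 aD h1 hD hDn h2 hd hm)
  exact h1 hm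

/-! ### (F0) -/

/-- `T ∩ Y` is a Sylow 2-subgroup of the normal subgroup `Y` -/
theorem relIndex_mul_card' {X Y : Subgroup H} (h : X ≤ Y) : X.relIndex Y * Nat.card X = Nat.card Y := by
  rw [← relIndex_bot_left, ← relIndex_bot_left, mul_comm]
  exact relIndex_mul_relIndex _ _ _ bot_le h

theorem not_dvd_of_normal [Finite H] {X T Y : Subgroup H} (hYX : Y ≤ X) (hn : X ≤ normalizer (Y : Set H)) (hT : T ≤ X)
    (sT : ¬ 2 ∣ T.relIndex X) : ¬ 2 ∣ T.relIndex Y := by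
  have h1 : T.relIndex (Y ⊔ T) = T.relIndex Y := by
    have h2 := Cfsg.Agent.Lib.ProductSet.card_mul_card_inf Y T
    rw [← coe_mul_of_right_le_normalizer_left Y T (hT.trans hn)] at h2
    have h3 : T.relIndex (Y ⊔ T) * Nat.card T = Nat.card (Y ⊔ T : Subgroup H) := relIndex_mul_card' le_sup_right
    have h4 : (T ⊓ Y).relIndex Y * Nat.card (T ⊓ Y : Subgroup H) = Nat.card Y := relIndex_mul_card' inf_le_right
    rw [inf_relIndex_right] at h4
    have h5 : Nat.card (Y ⊔ T : Subgroup H) * Nat.card (T ⊓ Y : Subgroup H) = Nat.card Y * Nat.card T := by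
      rw [inf_comm]
      exact h2
    rw [← h3, ← h4] at h5
    have h6 : 0 < Nat.card T * Nat.card (T ⊓ Y : Subgroup H) := Nat.mul_pos Nat.card_pos Nat.card_pos
    apply Nat.eq_of_mul_eq_mul_right h6
    calc _ = T.relIndex (Y ⊔ T) * Nat.card T * Nat.card (T ⊓ Y : Subgroup H) := by ring
      _ = _ := h5
      _ = _ := by ring
  intro h
  apply sT
  rw [← relIndex_mul_relIndex T (Y ⊔ T) X le_sup_right (sup_le hYX hT), h1]
  exact Dvd.dvd.mul_right h _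

/-- **(F0)** (719 (C1)) : `D₀ ≤ C_M(X)` is a hyperplane of `V = ⟨D₀, z⟩ = C_M(C_T(z))`, `T` moves `z` to `z x`,
`1 ≠ x ∈ D₀`; a subgroup `Y` normal in `X` which moves `z` contains `y ∈ T` with `z^y = z x`. -/
theorem exists_swap [Finite H] [Finite M] (sqM : ∀ m : M, m * m = 1) {X T Y : Subgroup H} (hYX : Y ≤ X)
    (hn : X ≤ normalizer (Y : Set H)) (hT : T ≤ X) (sT : ¬ 2 ∣ T.relIndex X) {D₀ : Subgroup M} {z x : M}
    (fx : ∀ g ∈ X, ∀ d ∈ D₀, g • d = d) (hx : x ∈ D₀) (hx1 : x ≠ 1) (tz : ∀ t ∈ T, t • z = z ∨ t • z = z * x)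
    {t₀ : H} (ht₀ : t₀ ∈ T) (htz : t₀ • z = z * x)
    (cw : ∀ w : M, (∀ t ∈ T, t • z = z → t • w = w) → w ∈ D₀ ∨ ∃ d ∈ D₀, w = z * d)
    (hY : ∃ y ∈ Y, y • z ≠ z) : ∃ y ∈ Y, y ∈ T ∧ y • z = z * x := by
  classical
  by_contra hcon
  push Not at hcon
  have hfixY : ∀ y ∈ Y, y ∈ T → y • z = z := fun y hy hyT => (tz y hyT).resolve_right (hcon y hy hyT)
  -- the orbit
  have hnY : ∀ {g y : H}, g ∈ X → y ∈ Y → g * y * g⁻¹ ∈ Y := fun hg hy => (mem_normalizer_iff.1 (hn hg) _).1 hy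
  set O : Set M := {w | ∃ y ∈ Y, y • z = w} with hO
  have hOf : O.Finite := Set.toFinite _
  set F : Finset M := hOf.toFinset with hF
  have memF : ∀ w, w ∈ F ↔ ∃ y ∈ Y, y • z = w := fun w => by rw [hF, Set.Finite.mem_toFinset]; rfl
  -- odd
  have hodd : ¬ 2 ∣ F.card := by
    have h1 : F.card = (MulAction.stabilizer Y z).index := by
      rw [MulAction.index_stabilizer, ← Set.ncard_coe_finset]
      congr 1
      ext w
      rw [Finset.mem_coe, memF]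
      constructor
      · rintro ⟨y, hy, h2⟩
        exact ⟨⟨y, hy⟩, h2⟩
      · rintro ⟨⟨y, hy⟩, h2⟩
        exact ⟨y, hy, h2⟩
    have h2 : (T.subgroupOf Y) ≤ MulAction.stabilizer Y z := by
      intro y hy
      exact hfixY y y.2 hy
    have h3 : (MulAction.stabilizer Y z).index ∣ T.relIndex Y := index_dvd_of_le h2
    intro h4
    exact not_dvd_of_normal hYX hn hT sT (h4.trans (h1 ▸ h3))
  have prodeq : ∀ (g : H) (c : M), (∀ w ∈ F, g • w * c ∈ F) → (c * c = 1) →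
      g • (∏ w ∈ F, w) = (∏ w ∈ F, w) * c ^ F.card := by
    intro g c h1 hc
    rw [Finset.smul_prod']
    have hinj : Set.InjOn (fun w => g • w * c) (F : Set M) := by
      intro u _ v _ huv
      have h2 : g • u = g • v := mul_right_cancel huv
      exact smul_left_cancel g h2
    have himg : F.image (fun w => g • w * c) = F := by
      apply Finset.eq_of_subset_of_card_le
      · intro w hw
        obtain ⟨u, hu, rfl⟩ := Finset.mem_image.1 hw
        exact h1 u hu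
      · rw [Finset.card_image_of_injOn hinj]
    have h3 : ∏ w ∈ F, (g • w * c) = ∏ w ∈ F, w := by
      conv_rhs => rw [← himg]
      rw [Finset.prod_image hinj]
    rw [Finset.prod_mul_distrib, Finset.prod_const] at h3
    have h4 : c ^ F.card * c ^ F.card = 1 := by rw [← mul_pow, hc, one_pow]
    calc ∏ w ∈ F, g • w = (∏ w ∈ F, g • w) * (c ^ F.card * c ^ F.card) := by rw [h4, mul_one]
      _ = ((∏ w ∈ F, g • w) * c ^ F.card) * c ^ F.card := by rw [mul_assoc]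
      _ = _ := by rw [h3]
  set σ : M := ∏ w ∈ F, w with hσ
  have hYσ : ∀ y ∈ Y, y • σ = σ := by
    intro y hy
    have h1 := prodeq y 1 (fun w hw => ?_) (one_mul 1)
    · rwa [one_pow, mul_one] at h1
    · obtain ⟨y', hy', rfl⟩ := (memF w).1 hw
      rw [mul_one, memF]
      exact ⟨y * y', Y.mul_mem hy hy', mul_smul _ _ _⟩
  have hTF : ∀ t ∈ T, ∀ w ∈ F, ∃ y ∈ Y, t • w = y • (t • z) := by
    intro t ht w hw
    obtain ⟨y, hy, rfl⟩ := (memF w).1 hw
    refine ⟨t * y * t⁻¹, hnY (hT ht) hy, ?_⟩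
    rw [← mul_smul, ← mul_smul]
    congr 1
    group
  have hQσ : ∀ t ∈ T, t • z = z → t • σ = σ := by
    intro t ht htz
    have h1 := prodeq t 1 (fun w hw => ?_) (one_mul 1)
    · rwa [one_pow, mul_one] at h1
    · obtain ⟨y, hy, h2⟩ := hTF t ht w hw
      rw [mul_one, memF, h2, htz]
      exact ⟨y, hy, rfl⟩
  have htσ : t₀ • σ = σ * x := by
    have h1 := prodeq t₀ x (fun w hw => ?_) (sqM x)
    · rw [h1]
      congr 1
      have h2 : F.card % 2 = 1 := by omega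
      obtain ⟨k, hk⟩ : ∃ k, F.card = 2 * k + 1 := ⟨F.card / 2, by omega⟩
      rw [hk, pow_succ, pow_mul, pow_two, sqM, one_pow, one_mul]
    · obtain ⟨y, hy, h2⟩ := hTF t₀ ht₀ w hw
      rw [h2, htz, smul_mul', fx y (hYX hy) x hx, mul_assoc, sqM, mul_one, memF]
      exact ⟨y, hy, rfl⟩
  rcases cw σ hQσ with h1 | ⟨d, hd, h1⟩
  · rw [fx t₀ (hT ht₀) σ h1] at htσ
    exact hx1 (left_eq_mul.1 htσ)
  · obtain ⟨y, hy, hyz⟩ := hY
    have h2 := hYσ y hy
    rw [h1, smul_mul', fx y (hYX hy) d hd] at h2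
    exact hyz (mul_right_cancel h2)

/-! ### the conclusion -/

/-- if all `R(p)` are equal then `B_p = 1` -/
theorem false_of_const [Finite H] [Finite M] (ha : a ≠ 0) (hb : b ≠ 0) (sqM : ∀ m : M, m * m = 1)
    (faith : ∀ h : H, (∀ m : M, h • m = m) → h = 1)
    (core : ∀ N : Subgroup H, N.Normal → IsPGroup 2 N → N = ⊥) {P : Type*} [MulAction H P] (Q : P → Subgroup H)
    (hQ : ∀ h p, Q (h • p) = cj h (Q p)) (fQ : ∀ p, Flat (fab M a b) (Q p)) (pQ : ∀ p, IsPGroup 2 (Q p))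
    {p₀ : P} {B₀ : Subgroup H} (aB : EAt M a b B₀) (hB₀ : B₀ ≤ Q p₀)
    (hconst : ∀ p q, RQ M a b (Q p) = RQ M a b (Q q)) : False := by
  set N : Subgroup H := sSup {B | EAt M a b B ∧ ∃ p, B ≤ Q p} with hN
  set R₀ : Subgroup M := RQ M a b (Q p₀) with hR₀
  have hcj : ∀ h : H, cj h N ≤ N := by
    intro h
    rw [cj_le_iff]
    refine sSup_le fun B hB => ?_
    rw [← cj_le_iff]
    obtain ⟨h1, p, h2⟩ := hB
    exact le_sSup ⟨h1.conj h, h • p, by rw [hQ]; exact cj_mono h2⟩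
  have hnorm : N.Normal := ⟨fun n hn g => hcj g ⟨n, hn, rfl⟩⟩
  have h1 : br M N ≤ R₀ := by
    refine br_sSup_le fun B hB => ?_
    obtain ⟨h1, p, h2⟩ := hB
    rw [hR₀, hconst p₀ p]
    exact h1.br_le h2
  -- `N` centralises `R₀`
  have h2 : ∀ r ∈ R₀, ∀ n ∈ N, n • r = r := by
    intro r hr
    let F : Subgroup H := MulAction.stabilizer H r
    change N ≤ F
    refine sSup_le fun B hB n hn => ?_
    obtain ⟨hB1, p, hB2⟩ := hB
    have h3 : RQ M a b (Q p) ≤ cv M (B : Set H) := by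
      refine br_sSup_le fun B' hB' => ?_
      by_cases h4 : B' = B
      · rw [h4]; exact hB1.quad
      · exact Atom.eq ha hb (fQ p) (pQ p) hB'.1.at' hB1.at' hB'.2 hB2 h4
    have h4 : r ∈ RQ M a b (Q p) := by rw [hconst p p₀]; exact hr
    exact h3 h4 n hn
  have h3 : ∀ n ∈ N, n * n = 1 := by
    intro n hn
    apply faith
    intro m
    have h4 : n • m * m⁻¹ ∈ R₀ := h1 (mem_br hn m)
    have h5 := h2 _ h4 n hn
    rw [smul_mul', smul_inv'] at h5
    have h6 := sqM (n • m * m⁻¹)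
    have h7 : n • n • m = (n • m * m⁻¹) * (n • m) := by rw [← h5]; group
    rw [mul_smul, h7]
    calc n • m * m⁻¹ * (n • m) = n • m * m⁻¹ * (n • m * m⁻¹) * m := by group
      _ = m := by rw [h6, one_mul]
  have h4 : N = ⊥ := core N hnorm fun g => ⟨1, by
    rw [pow_one, pow_two]
    exact Subtype.ext (h3 g g.2)⟩
  have h5 : B₀ ≤ N := le_sSup ⟨aB, p₀, hB₀⟩
  rw [h4, le_bot_iff] at h5
  exact aB.at'.ne_bot h5

/-- `⟨D^X⟩` -/
def EE (X D : Subgroup H) : Subgroup H := closure {y | ∃ x ∈ X, ∃ d ∈ D, y = x * d * x⁻¹}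

theorem EE_le {X D : Subgroup H} (hD : D ≤ X) : EE X D ≤ X := by
  rw [EE, closure_le]
  rintro _ ⟨x, hx, d, hd, rfl⟩
  exact X.mul_mem (X.mul_mem hx (hD hd)) (X.inv_mem hx)

theorem le_EE {X D : Subgroup H} : D ≤ EE X D := fun d hd => subset_closure ⟨1, X.one_mem, d, hd, by group⟩

theorem le_normalizer_EE {X D : Subgroup H} : X ≤ normalizer (EE X D : Set H) := by
  have h1 : ∀ x ∈ X, ∀ y ∈ EE X D, x * y * x⁻¹ ∈ EE X D := by
    intro x hx y hy
    have h2 : EE X D ≤ (EE X D).comap (MulAut.conj x).toMonoidHom := by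
      rw [EE, closure_le]
      rintro _ ⟨x', hx', d, hd, rfl⟩
      refine subset_closure ⟨x * x', X.mul_mem hx hx', d, hd, ?_⟩
      change x * (x' * d * x'⁻¹) * x⁻¹ = _
      group
    exact h2 hy
  intro x hx
  rw [mem_normalizer_iff]
  intro y
  refine ⟨h1 x hx y, fun h => ?_⟩
  have h3 := h1 x⁻¹ (X.inv_mem hx) _ h
  have e : x⁻¹ * (x * y * x⁻¹) * x⁻¹⁻¹ = y := by group
  rwa [e] at h3

/-- **(A)-(D)** : `r ≥ 2` is impossible.  `Ω` = the heavy points `≠ z` on the lines `V^X`, `X = X_ij(V)`. -/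
theorem false_of_mixed [Finite H] [Finite M] (ha : a ≠ 0) (hb : b ≠ 0) (sqM : ∀ m : M, m * m = 1)
    (faith : ∀ h : H, (∀ m : M, h • m = m) → h = 1)
    (core : ∀ N : Subgroup H, N.Normal → IsPGroup 2 N → N = ⊥) {P : Type*} [MulAction H P] (Q : P → Subgroup H)
    (hQ : ∀ h p, Q (h • p) = cj h (Q p)) (fQ : ∀ p, Flat (fab M a b) (Q p)) (pQ : ∀ p, IsPGroup 2 (Q p))
    {p₁ : P} {B₁ : Subgroup H} (aB : EAt M a b B₁) (hB₁ : B₁ ≤ Q p₁)
    {X D O₁ O₂ : Subgroup H} (f1 : Flat (fab M a b) O₁) (f2 : Flat (fab M a b) O₂) (p2 : IsPGroup 2 O₂)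
    (aD : EAt M a b D) (hD : D ≤ O₂) (hDX : D ≤ X) (hDn : D ≤ normalizer (O₁ : Set H))
    (Ω : Set P) (hΩ : ∀ x ∈ X, ∀ p ∈ Ω, x • p ∈ Ω)
    (hΩQ : ∀ p ∈ Ω, ∀ B : Subgroup H, EAt M a b B → B ≤ Q p → B ≤ O₁ ∧ B ≤ normalizer (O₂ : Set H))
    {p₀ : P} (hp₀ : p₀ ∈ Ω) {e : H} (he : e ∈ EE X D)
    (conn : ∀ r : P → P → Prop, Equivalence r → (∀ (h : H) (p q : P), r p q → r (h • p) (h • q)) → r p₀ (e • p₀) →
      ∀ p q, r p q) : False := by
  have hR : ∀ (h : H) (p : P) (m : M), m ∈ RQ M a b (Q (h • p)) ↔ h⁻¹ • m ∈ RQ M a b (Q p) := by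
    intro h p m
    rw [hQ, mem_RQ_cj]
  -- equality is a congruence
  have hcong : ∀ (h : H) (p q : P), RQ M a b (Q p) = RQ M a b (Q q) → RQ M a b (Q (h • p)) = RQ M a b (Q (h • q)) := by
    intro h p q h1
    ext m
    rw [hR, hR, h1]
  -- (A)
  have hA : ∀ d ∈ D, ∀ p ∈ Ω, RQ M a b (Q (d • p)) = RQ M a b (Q p) := by
    intro d hd p hp
    ext m
    rw [hR]
    constructor
    · intro h1
      have h2 := smul_mem_RQ ha hb f1 f2 p2 aD hD hDn (hΩQ p hp) hd h1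
      rwa [smul_inv_smul] at h2
    · intro h1
      exact smul_mem_RQ ha hb f1 f2 p2 aD hD hDn (hΩQ p hp) (D.inv_mem hd) h1
  -- (B)
  have hB : ∀ e ∈ EE X D, ∀ p ∈ Ω, RQ M a b (Q (e • p)) = RQ M a b (Q p) := by
    intro e he
    have hX := EE_le hDX
    refine closure_induction (p := fun e he => ∀ p ∈ Ω, RQ M a b (Q (e • p)) = RQ M a b (Q p)) ?_ ?_ ?_ ?_ he
    · rintro _ ⟨x, hx, d, hd, rfl⟩ p hp
      have h1 := hA d hd (x⁻¹ • p) (hΩ _ (X.inv_mem hx) p hp)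
      have h2 := hcong x _ _ h1
      rw [smul_inv_smul] at h2
      rw [mul_smul, mul_smul]
      exact h2
    · intro p _
      rw [one_smul]
    · intro y z _ hz h1 h2 p hp
      rw [mul_smul, h1 _ (hΩ z (hX hz) p hp), h2 p hp]
    · intro y hy h1 p hp
      have h2 := h1 (y⁻¹ • p) (hΩ _ (X.inv_mem (hX hy)) p hp)
      rw [smul_inv_smul] at h2
      exact h2.symm
  -- (D)
  have hc := conn (fun p q => RQ M a b (Q p) = RQ M a b (Q q)) ⟨fun _ => rfl, fun h => h.symm, fun h h' => h.trans h'⟩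
    hcong (hB e he p₀ hp₀).symm
  exact false_of_const ha hb sqM faith core Q hQ fQ pQ aB hB₁ hc

end Cfsg.Agent.Omega.NO3S.SN.S2
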